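import Mathlib
import Cfsg.Prelude.Def_Amalgam
import Cfsg.Agent.Lib.Helper84.PCoreBasic
import Cfsg.Agent.Lib.Helper71.Sym.BDefs
import Cfsg.Agent.Lib.Helper96.Sub3.IsoS4
import Cfsg.Agent.Lib.Helper65.Sub3.IsoS4xC2

/-!
S2858 (S₃-amalgams), endgame directly from the conclusion `BConcl` of helper71's two-type
amalgam lemma: with `Q i = O₂(P i)` of exponent `2`, `T = Q₁ Q₂` and `|Q₁ ⊓ Q₂| ≤ 4`, both `P i`
are `S₄` or both are `C₂ × S₄`.  (helper81)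
-/

set_option autoImplicit false

namespace Cfsg.Agent.Lib.Helper81.Amal

open Cfsg Cfsg.Agent.Lib.Helper71.Sym

universe u
variable {G : Type u} [Group G]

/-- `|K| = |H| · |K : H|` for `H ≤ K`. -/
theorem card_eq_card_mul_relIndex {H K : Subgroup G} (hHK : H ≤ K) :
    Nat.card ↥K = Nat.card ↥H * H.relIndex K := by
  have h := Subgroup.relIndex_mul_relIndex (H := (⊥ : Subgroup G)) (K := H) (L := K) bot_le hHK
  rw [Subgroup.relIndex_bot_left, Subgroup.relIndex_bot_left] at h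
  exact h.symm

/-- One side: the identification of `P` from `|O₂(P)|`. -/
theorem side_iso (P T : Subgroup G) (hL : LAmal P T (pCoreOf 2 P))
    (hsq : ∀ q ∈ pCoreOf 2 P, q * q = 1) (τ : G) (hτT : τ ∈ T) (hτQ : τ ∉ pCoreOf 2 P)
    (hτ2 : τ * τ = 1) :
    (Nat.card ↥(pCoreOf 2 P) = 4 → Nonempty (↥P ≃* Equiv.Perm (Fin 4))) ∧
    (Nat.card ↥(pCoreOf 2 P) = 8 →
      Nonempty (↥P ≃* Multiplicative (ZMod 2) × Equiv.Perm (Fin 4))) := by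
  have : Finite ↥P := hL.fin
  have : (pCore 2 ↥P).Normal := Cfsg.pCore_normal 2 ↥P
  have hmemQ : ∀ x : G, x ∈ pCoreOf 2 P ↔ ∃ y : ↥P, y ∈ pCore 2 ↥P ∧ (y : G) = x := by
    intro x; unfold Cfsg.pCoreOf; rw [Subgroup.mem_map]; rfl
  have hcardQ : Nat.card ↥(pCoreOf 2 P) = Nat.card ↥(pCore 2 ↥P) := by
    unfold Cfsg.pCoreOf
    exact Subgroup.card_map_of_injective P.subtype_injective
  have hcardP : Nat.card ↥P = 6 * Nat.card ↥(pCoreOf 2 P) := by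
    rw [hL.hHT, hL.hTQ]; ring
  have hcent : ∀ ρ : ↥P, orderOf ρ = 3 → ∃ x ∈ pCore 2 ↥P, ρ * x ≠ x * ρ := by
    intro ρ hρ
    by_contra hcon
    push_neg at hcon
    have hρQ : (ρ : G) ∈ pCoreOf 2 P := by
      apply hL.hCQ _ ρ.2
      intro q hq
      obtain ⟨y, hy, rfl⟩ := (hmemQ q).mp hq
      have := hcon y hy
      exact congrArg Subtype.val this
    have hρT : (ρ : G) ∈ T := hL.hQT hρQ
    obtain ⟨k, hk⟩ := hL.hT2 ⟨ρ, hρT⟩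
    have hk' : (ρ : G) ^ 2 ^ k = 1 := by simpa using congrArg Subtype.val hk
    have h3 : orderOf (ρ : G) = 3 := by rw [Subgroup.orderOf_coe]; exact hρ
    have hdvd : 3 ∣ 2 ^ k := by rw [← h3]; exact orderOf_dvd_of_pow_eq_one hk'
    have := Nat.Prime.dvd_of_dvd_pow Nat.prime_three hdvd
    omega
  have hcore : ∀ N : Subgroup ↥P, N.Normal → IsPGroup 2 N → N ≤ pCore 2 ↥P :=
    fun N hN hp => Cfsg.Agent.Lib.Helper84.le_pCore hN hp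
  constructor
  · intro h4
    exact Cfsg.Agent.Lib.Helper96.Sub3.iso_S4_of_core (by rw [hcardP, h4]) (pCore 2 ↥P)
      (by rw [← hcardQ, h4]) hcent hcore
  · intro h8
    have hK2 : ∀ x ∈ pCore 2 ↥P, x * x = 1 := by
      intro x hx
      apply Subtype.ext
      exact hsq _ ((hmemQ _).mpr ⟨x, hx, rfl⟩)
    have hτK : (⟨τ, hL.hTH hτT⟩ : ↥P) ∉ pCore 2 ↥P := by
      intro h
      exact hτQ ((hmemQ _).mpr ⟨_, h, rfl⟩)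
    obtain ⟨e⟩ := Cfsg.Agent.Lib.Helper65.Sub3.iso_S4xC2 (by rw [hcardP, h8]) (pCore 2 ↥P)
      (by rw [← hcardQ, h8]) hK2 hcent ⟨τ, hL.hTH hτT⟩ (Subtype.ext hτ2) hτK hcore
    exact ⟨e.trans MulEquiv.prodComm⟩

/-- Counting for the pair `(Q₁, Q₂)` inside `T`. -/
theorem card_pair {T Q₁ Q₂ : Subgroup G} [Finite ↥T] (hQ₁T : Q₁ ≤ T) (hQ₂T : Q₂ ≤ T)
    (hTQ₁ : Nat.card ↥T = 2 * Nat.card ↥Q₁) (hTQ₂ : Nat.card ↥T = 2 * Nat.card ↥Q₂)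
    (hprod : ∀ t ∈ T, ∃ a ∈ Q₁, ∃ b ∈ Q₂, t = a * b) :
    (∃ τ ∈ Q₂, τ ∉ Q₁) ∧ Nat.card ↥Q₁ = 2 * Nat.card ↥(Q₁ ⊓ Q₂) := by
  have : Finite ↥Q₁ := Finite.of_injective _ (Subgroup.inclusion_injective hQ₁T)
  have : Finite ↥Q₂ := Finite.of_injective _ (Subgroup.inclusion_injective hQ₂T)
  have hpos₁ : 0 < Nat.card ↥Q₁ := Nat.card_pos
  have hpos₂ : 0 < Nat.card ↥Q₂ := Nat.card_pos
  have hposT : 0 < Nat.card ↥T := Nat.card_pos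
  -- neither contains the other
  have hn₁ : ¬ Q₂ ≤ Q₁ := by
    intro hle
    have hTle : T ≤ Q₁ := by
      intro t ht
      obtain ⟨a, ha, b, hb, rfl⟩ := hprod t ht
      exact Q₁.mul_mem ha (hle hb)
    have := Subgroup.card_le_of_le hTle
    omega
  have hn₂ : ¬ Q₁ ≤ Q₂ := by
    intro hle
    have hTle : T ≤ Q₂ := by
      intro t ht
      obtain ⟨a, ha, b, hb, rfl⟩ := hprod t ht
      exact Q₂.mul_mem (hle ha) hb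
    have := Subgroup.card_le_of_le hTle
    omega
  refine ⟨?_, ?_⟩
  · by_contra hcon
    push_neg at hcon
    exact hn₁ hcon
  · -- `|Q₁ : Q₁ ⊓ Q₂| = |Q₁ : Q₂ ⊓ Q₁| = 2`
    have hrT : Q₂.relIndex T = 2 := by
      have h := card_eq_card_mul_relIndex hQ₂T
      rw [hTQ₂] at h
      have : Nat.card ↥Q₂ * 2 = Nat.card ↥Q₂ * Q₂.relIndex T := by rw [← h]; ring
      exact (Nat.eq_of_mul_eq_mul_left hpos₂ this).symm
    have hle : Q₂.relIndex Q₁ ≤ 2 := by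
      have := Subgroup.relIndex_le_of_le_right (H := Q₂) hQ₁T (by rw [hrT]; norm_num)
      rwa [hrT] at this
    have hne1 : Q₂.relIndex Q₁ ≠ 1 := fun h => hn₂ (Subgroup.relIndex_eq_one.mp h)
    have hne0 : Q₂.relIndex Q₁ ≠ 0 := by
      have hdvd : Q₂.relIndex Q₁ ∣ Nat.card ↥Q₁ := Subgroup.relIndex_dvd_card Q₂ Q₁
      intro h0
      rw [h0] at hdvd
      have := Nat.eq_zero_of_zero_dvd hdvd
      omega
    have h2 : Q₂.relIndex Q₁ = 2 := by omega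
    have h := card_eq_card_mul_relIndex (inf_le_left : Q₁ ⊓ Q₂ ≤ Q₁)
    rw [Subgroup.inf_relIndex_left, h2] at h
    rw [h]; ring

/-- **Endgame from `BConcl`.** -/
theorem iso_of_bconcl (P₁ P₂ T : Subgroup G)
    (hloc : ∀ i : Bool, LAmal (bif i then P₁ else P₂) T (pCoreOf 2 (bif i then P₁ else P₂)))
    (hC : BConcl T (fun i : Bool => pCoreOf 2 (bif i then P₁ else P₂))) :
    (Nonempty (↥P₁ ≃* Equiv.Perm (Fin 4)) ∧ Nonempty (↥P₂ ≃* Equiv.Perm (Fin 4))) ∨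
    (Nonempty (↥P₁ ≃* Multiplicative (ZMod 2) × Equiv.Perm (Fin 4)) ∧
      Nonempty (↥P₂ ≃* Multiplicative (ZMod 2) × Equiv.Perm (Fin 4))) := by
  have hL₁ : LAmal P₁ T (pCoreOf 2 P₁) := hloc true
  have hL₂ : LAmal P₂ T (pCoreOf 2 P₂) := hloc false
  have hsq₁ : ∀ q ∈ pCoreOf 2 P₁, q * q = 1 := hC.sq true
  have hsq₂ : ∀ q ∈ pCoreOf 2 P₂, q * q = 1 := hC.sq false
  have hprod : ∀ t ∈ T, ∃ a ∈ pCoreOf 2 P₁, ∃ b ∈ pCoreOf 2 P₂, t = a * b := hC.prod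
  have hcard : Nat.card ↥(pCoreOf 2 P₁ ⊓ pCoreOf 2 P₂) ≤ 4 := hC.card
  have : Finite ↥P₁ := hL₁.fin
  have : Finite ↥T := Finite.of_injective _ (Subgroup.inclusion_injective hL₁.hTH)
  have hprod' : ∀ t ∈ T, ∃ a ∈ pCoreOf 2 P₂, ∃ b ∈ pCoreOf 2 P₁, t = a * b := by
    intro t ht
    obtain ⟨a, ha, b, hb, hab⟩ := hprod t⁻¹ (T.inv_mem ht)
    refine ⟨b⁻¹, Subgroup.inv_mem _ hb, a⁻¹, Subgroup.inv_mem _ ha, ?_⟩
    rw [← mul_inv_rev, ← hab, inv_inv]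
  obtain ⟨⟨τ₁, hτ₁Q, hτ₁⟩, hc₁⟩ := card_pair hL₁.hQT hL₂.hQT hL₁.hTQ hL₂.hTQ hprod
  obtain ⟨⟨τ₂, hτ₂Q, hτ₂⟩, hc₂⟩ := card_pair hL₂.hQT hL₁.hQT hL₂.hTQ hL₁.hTQ hprod'
  rw [inf_comm] at hc₂
  -- `D ≠ ⊥`
  obtain ⟨z, hzT, hz2, hzc, h, hh, hhz⟩ := hL₁.hZ
  have hz1 : z ≠ 1 := by
    rintro rfl
    apply hhz
    rw [mul_one, one_mul]
  have hzQ₁ : z ∈ pCoreOf 2 P₁ := hL₁.hCQ z (hL₁.hTH hzT) (fun q hq => hzc q (hL₁.hQT hq))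
  have hzQ₂ : z ∈ pCoreOf 2 P₂ := hL₂.hCQ z (hL₂.hTH hzT) (fun q hq => hzc q (hL₂.hQT hq))
  have hDT : pCoreOf 2 P₁ ⊓ pCoreOf 2 P₂ ≤ T := inf_le_left.trans hL₁.hQT
  have : Finite ↥(pCoreOf 2 P₁ ⊓ pCoreOf 2 P₂) :=
    Finite.of_injective _ (Subgroup.inclusion_injective hDT)
  have hD2 : IsPGroup 2 ↥(pCoreOf 2 P₁ ⊓ pCoreOf 2 P₂) := hL₁.hT2.to_le hDT
  obtain ⟨m, hm⟩ := IsPGroup.iff_card.mp hD2
  have hDne : Nat.card ↥(pCoreOf 2 P₁ ⊓ pCoreOf 2 P₂) ≠ 1 := by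
    intro h1
    have hbot := Subgroup.eq_bot_of_card_eq _ h1
    have hzD : z ∈ pCoreOf 2 P₁ ⊓ pCoreOf 2 P₂ := Subgroup.mem_inf.mpr ⟨hzQ₁, hzQ₂⟩
    rw [hbot, Subgroup.mem_bot] at hzD
    exact hz1 hzD
  have hcases : Nat.card ↥(pCoreOf 2 P₁ ⊓ pCoreOf 2 P₂) = 2 ∨
      Nat.card ↥(pCoreOf 2 P₁ ⊓ pCoreOf 2 P₂) = 4 := by
    rw [hm] at hDne hcard ⊢
    have hm2 : m < 3 := by
      by_contra hcon
      push_neg at hcon
      have : 2 ^ 3 ≤ 2 ^ m := Nat.pow_le_pow_right (by norm_num) hcon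
      omega
    interval_cases m
    · exact absurd rfl hDne
    · left; rfl
    · right; rfl
  have hτ₁T : τ₁ ∈ T := hL₂.hQT hτ₁Q
  have hτ₂T : τ₂ ∈ T := hL₁.hQT hτ₂Q
  have s₁ := side_iso P₁ T hL₁ hsq₁ τ₁ hτ₁T hτ₁ (hsq₂ τ₁ hτ₁Q)
  have s₂ := side_iso P₂ T hL₂ hsq₂ τ₂ hτ₂T hτ₂ (hsq₁ τ₂ hτ₂Q)
  rcases hcases with h2 | h4
  · left
    exact ⟨s₁.1 (by rw [hc₁, h2]), s₂.1 (by rw [hc₂, h2])⟩
  · right
    exact ⟨s₁.2 (by rw [hc₁, h4]), s₂.2 (by rw [hc₂, h4])⟩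

end Cfsg.Agent.Lib.Helper81.Amal
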