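import Mathlib
import Cfsg.Agent.Lib.Helper2.Amal.Top
import Cfsg.Agent.Lib.Helper71.Sym.BiAmalgam
import Cfsg.Agent.Lib.Helper81.Amal.EndB

/-!
S2858 (S₃-amalgams): top-level assembly WITHOUT the endgame black box.  The frozen statement
follows from helper71's two-type amalgam lemma (`biAmalgam`, landed) and claim (N) alone; the
identification with `S₄` / `C₂ × S₄` is read off `BConcl` (`iso_of_bconcl`).  Same induction as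
helper2's `s2858_of`.  (helper81)
-/

set_option autoImplicit false

namespace Cfsg.Agent.Lib.Helper81.Amal

open Cfsg Cfsg.Agent.Lib.Helper71.Sym Cfsg.Agent.Lib.Helper59.Amal Cfsg.Agent.Lib.Helper2.Amal

universe u

/-- The induction step (no endgame input). -/
theorem s2858_step' (hN : ClaimN.{u}) (n : ℕ) (IH : IHlt.{u} n)
    {G : Type u} [Group G] (P₁ P₂ : Subgroup G) [Finite ↥P₁] [Finite ↥P₂] (hgen : P₁ ⊔ P₂ = ⊤)
    (T : Subgroup G) (hT : T = P₁ ⊓ P₂)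
    (h₁ : ∀ P ∈ ({P₁, P₂} : Set (Subgroup G)),
      P ⊓ Subgroup.centralizer (Cfsg.pCoreOf 2 P : Set G) ≤ Cfsg.pCoreOf 2 P)
    (h₂ : ∀ P ∈ ({P₁, P₂} : Set (Subgroup G)), ∃ S : Sylow 2 ↥P, (S : Subgroup ↥P) = T.subgroupOf P)
    (h₃ : ∀ N : Subgroup G, N.Normal → N ≤ T → N = ⊥)
    (h₄ : ∀ P ∈ ({P₁, P₂} : Set (Subgroup G)), Nonempty (↥P ⧸ Cfsg.pCore 2 ↥P ≃* Equiv.Perm (Fin 3)))
    (h₅ : ∀ P ∈ ({P₁, P₂} : Set (Subgroup G)),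
      ¬ P ≤ Subgroup.centralizer (Cfsg.omegaOne 2 (T ⊓ Subgroup.centralizer (T : Set G)) : Set G))
    (hcard : Nat.card ↥T = n) :
    (Nonempty (↥P₁ ≃* Equiv.Perm (Fin 4)) ∧ Nonempty (↥P₂ ≃* Equiv.Perm (Fin 4))) ∨
    (Nonempty (↥P₁ ≃* Multiplicative (ZMod 2) × Equiv.Perm (Fin 4)) ∧
      Nonempty (↥P₂ ≃* Multiplicative (ZMod 2) × Equiv.Perm (Fin 4))) := by
  obtain ⟨hloc, hcore⟩ := lamal_of_frozen P₁ P₂ hgen T hT h₁ h₂ h₃ h₄ h₅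
  by_cases hND : ∀ i : Bool, ¬ (∀ h ∈ (bif i then P₁ else P₂),
      ∀ d ∈ Cfsg.pCoreOf 2 (bif i then P₁ else P₂) ⊓ Cfsg.pCoreOf 2 (bif !i then P₁ else P₂),
        h * d * h⁻¹ ∈
          Cfsg.pCoreOf 2 (bif i then P₁ else P₂) ⊓ Cfsg.pCoreOf 2 (bif !i then P₁ else P₂))
  · have hA : BAmal (fun i : Bool => bif i then P₁ else P₂) T
        (fun i : Bool => Cfsg.pCoreOf 2 (bif i then P₁ else P₂)) := ⟨hloc, hcore, hND⟩
    exact iso_of_bconcl P₁ P₂ T hloc (bConcl hA)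
  · exfalso
    obtain ⟨i, hi'⟩ := not_forall.mp hND
    have hi := not_not.mp hi'
    cases i
    · have hgen' : P₂ ⊔ P₁ = ⊤ := by rw [sup_comm]; exact hgen
      have hT' : T = P₂ ⊓ P₁ := by rw [inf_comm]; exact hT
      have sw : ∀ P, P ∈ ({P₂, P₁} : Set (Subgroup G)) → P ∈ ({P₁, P₂} : Set (Subgroup G)) :=
        fun P hP => by rw [Set.pair_comm]; exact hP
      exact hN n IH G P₂ P₁ hgen' T hT' (fun P hP => h₁ P (sw P hP)) (fun P hP => h₂ P (sw P hP)) h₃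
        (fun P hP => h₄ P (sw P hP)) (fun P hP => h₅ P (sw P hP)) hcard hi
    · exact hN n IH G P₁ P₂ hgen T hT h₁ h₂ h₃ h₄ h₅ hcard hi

/-- The induction: the S2858 statement holds for all `|T| < n`. -/
theorem ihlt_of' (hN : ClaimN.{u}) : ∀ n : ℕ, IHlt.{u} n := by
  intro n
  induction n with
  | zero =>
    intro G _ P₁ P₂ _ _ _ T _ _ _ _ _ _ hlt
    exact absurd hlt (Nat.not_lt_zero _)
  | succ n ih =>
    intro G _ P₁ P₂ _ _ hgen T hT h₁ h₂ h₃ h₄ h₅ hlt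
    rcases Nat.lt_succ_iff_lt_or_eq.mp hlt with hlt' | heq
    · exact ih G P₁ P₂ hgen T hT h₁ h₂ h₃ h₄ h₅ hlt'
    · exact s2858_step' hN n ih P₁ P₂ hgen T hT h₁ h₂ h₃ h₄ h₅ heq

/-- **S2858 from claim (N) alone** (frozen binders). -/
theorem s2858_of' (hN : ClaimN.{u})
    {G : Type u} [Group G] (P₁ P₂ : Subgroup G) [Finite ↥P₁] [Finite ↥P₂] (hgen : P₁ ⊔ P₂ = ⊤)
    (T : Subgroup G) (hT : T = P₁ ⊓ P₂)
    (h₁ : ∀ P ∈ ({P₁, P₂} : Set (Subgroup G)),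
      P ⊓ Subgroup.centralizer (Cfsg.pCoreOf 2 P : Set G) ≤ Cfsg.pCoreOf 2 P)
    (h₂ : ∀ P ∈ ({P₁, P₂} : Set (Subgroup G)), ∃ S : Sylow 2 ↥P, (S : Subgroup ↥P) = T.subgroupOf P)
    (h₃ : ∀ N : Subgroup G, N.Normal → N ≤ T → N = ⊥)
    (h₄ : ∀ P ∈ ({P₁, P₂} : Set (Subgroup G)), Nonempty (↥P ⧸ Cfsg.pCore 2 ↥P ≃* Equiv.Perm (Fin 3)))
    (h₅ : ∀ P ∈ ({P₁, P₂} : Set (Subgroup G)),
      ¬ P ≤ Subgroup.centralizer (Cfsg.omegaOne 2 (T ⊓ Subgroup.centralizer (T : Set G)) : Set G)) :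
    (Nonempty (↥P₁ ≃* Equiv.Perm (Fin 4)) ∧ Nonempty (↥P₂ ≃* Equiv.Perm (Fin 4))) ∨
    (Nonempty (↥P₁ ≃* Multiplicative (ZMod 2) × Equiv.Perm (Fin 4)) ∧
      Nonempty (↥P₂ ≃* Multiplicative (ZMod 2) × Equiv.Perm (Fin 4))) :=
  ihlt_of' hN (Nat.card ↥T + 1) G P₁ P₂ hgen T hT h₁ h₂ h₃ h₄ h₅ (Nat.lt_succ_self _)

/-- helper2's endgame black box is a consequence (so `s2858_of` needs only claim (N) too). -/
theorem endStmt_of_claimN (hN : ClaimN.{u}) : EndStmt.{u} :=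
  fun _ _ P₁ P₂ _ _ hgen T hT h₁ h₂ h₃ h₄ h₅ _ => s2858_of' hN P₁ P₂ hgen T hT h₁ h₂ h₃ h₄ h₅

end Cfsg.Agent.Lib.Helper81.Amal
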